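import Groth.Agent.UnitRigidLib.Algebra
import Mathlib.AlgebraicGeometry.AlgClosed.Basic
import Mathlib.AlgebraicGeometry.Morphisms.FiniteType
import Mathlib.AlgebraicGeometry.Pullbacks
import Mathlib.AlgebraicGeometry.Properties
import Mathlib.AlgebraicGeometry.Cover.Open

/-!
# Units on a product of connected reduced schemes over an algebraically closed field
-/

set_option autoImplicit false

noncomputable section

universe u

open CategoryTheory Limits AlgebraicGeometry TensorProduct Topology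

namespace UnitRigidLib

/-- On a preconnected Jacobson space, a property of closed points which is locally constant and
holds somewhere holds everywhere. -/
theorem forall_closed_of_locally_const {Z : Type*} [TopologicalSpace Z] [JacobsonSpace Z]
    [PreconnectedSpace Z] (P : Z → Prop)
    (hP : ∀ z, IsClosed ({z} : Set Z) → ∃ O : Set Z, IsOpen O ∧ z ∈ O ∧
      ∀ z' ∈ O, IsClosed ({z'} : Set Z) → (P z' ↔ P z))
    {z₀ : Z} (h0 : IsClosed ({z₀} : Set Z)) (h0' : P z₀) : ∀ z, IsClosed ({z} : Set Z) → P z := by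
  intro z hz
  by_contra hzn
  let O₁ : Set Z := ⋃₀ {O | IsOpen O ∧ ∀ z' ∈ O, IsClosed ({z'} : Set Z) → P z'}
  let O₂ : Set Z := ⋃₀ {O | IsOpen O ∧ ∀ z' ∈ O, IsClosed ({z'} : Set Z) → ¬ P z'}
  have ho₁ : IsOpen O₁ := isOpen_sUnion fun O h => h.1
  have ho₂ : IsOpen O₂ := isOpen_sUnion fun O h => h.1
  have hmem : ∀ w, IsClosed ({w} : Set Z) → (P w → w ∈ O₁) ∧ (¬ P w → w ∈ O₂) := fun w hw => by
    obtain ⟨O, hO, hwO, hiff⟩ := hP w hw
    exact ⟨fun h => ⟨O, ⟨hO, fun z' hz' hc => (hiff z' hz' hc).2 h⟩, hwO⟩,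
      fun h => ⟨O, ⟨hO, fun z' hz' hc hP' => h ((hiff z' hz' hc).1 hP')⟩, hwO⟩⟩
  have huniv : Set.univ ⊆ O₁ ∪ O₂ := by
    intro x _
    by_contra hx
    obtain ⟨w, hw, hw'⟩ := nonempty_inter_closedPoints (Z := (O₁ ∪ O₂)ᶜ) ⟨x, hx⟩
      (ho₁.union ho₂).isClosed_compl.isLocallyClosed
    rw [mem_closedPoints_iff] at hw'
    rcases em (P w) with h | h
    · exact hw (Or.inl ((hmem w hw').1 h))
    · exact hw (Or.inr ((hmem w hw').2 h))
  obtain ⟨x, -, hx₁, hx₂⟩ := PreconnectedSpace.isPreconnected_univ O₁ O₂ ho₁ ho₂ huniv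
    ⟨z₀, trivial, (hmem z₀ h0).1 h0'⟩ ⟨z, trivial, (hmem z hz).2 hzn⟩
  obtain ⟨w, ⟨hw₁, hw₂⟩, hw'⟩ := nonempty_inter_closedPoints (Z := O₁ ∩ O₂) ⟨x, hx₁, hx₂⟩
    (ho₁.inter ho₂).isLocallyClosed
  rw [mem_closedPoints_iff] at hw'
  obtain ⟨O, hO, hwO⟩ := hw₁
  obtain ⟨O', hO', hwO'⟩ := hw₂
  exact hO'.2 w hwO' hw' (hO.2 w hwO hw')

variable {K : Type u} [Field K]

/-- The function on `Spec C` attached to a global function. -/
def ev {P : Scheme.{u}} (g : Γ(P, ⊤)) {C : CommRingCat.{u}} (h : Spec C ⟶ P) : C :=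
  (Scheme.ΓSpecIso C).hom (h.appTop g)

theorem ev_comp {P : Scheme.{u}} (g : Γ(P, ⊤)) {C C' : CommRingCat.{u}} (θ : C ⟶ C') (h : Spec C ⟶ P) :
    ev g (Spec.map θ ≫ h) = θ (ev g h) := by
  unfold ev
  rw [Scheme.Hom.comp_appTop, ← ConcreteCategory.comp_apply, Category.assoc,
    Scheme.ΓSpecIso_naturality, ← Category.assoc]
  rfl

theorem isUnit_ev {P : Scheme.{u}} {g : Γ(P, ⊤)} (hg : IsUnit g) {C : CommRingCat.{u}} (h : Spec C ⟶ P) :
    IsUnit (ev g h) := (hg.map h.appTop.hom).map (Scheme.ΓSpecIso C).hom.hom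

variable {A B : Type u} [CommRing A] [CommRing B] [Algebra K A] [Algebra K B]
variable {X Y : Scheme.{u}} {pX : X ⟶ Spec (.of K)} {pY : Y ⟶ Spec (.of K)}

/-- The map `Spec (A ⊗ B) → X × Y` of two charts. -/
def prodChart {jU : Spec (.of A) ⟶ X} {jV : Spec (.of B) ⟶ Y}
    (hU : jU ≫ pX = Spec.map (CommRingCat.ofHom (algebraMap K A)))
    (hV : jV ≫ pY = Spec.map (CommRingCat.ofHom (algebraMap K B))) :
    Spec (.of (A ⊗[K] B)) ⟶ pullback pX pY :=
  pullback.lift (Spec.map (CommRingCat.ofHom (Algebra.TensorProduct.includeLeftRingHom)) ≫ jU)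
    (Spec.map (CommRingCat.ofHom (Algebra.TensorProduct.includeRight (R := K) (A := A)).toRingHom) ≫ jV)
    (by
      rw [Category.assoc, hU, Category.assoc, hV, ← Spec.map_comp, ← Spec.map_comp]
      congr 1
      ext c
      simp)

theorem comp_prodChart_fst {jU : Spec (.of A) ⟶ X} {jV : Spec (.of B) ⟶ Y}
    (hU : jU ≫ pX = Spec.map (CommRingCat.ofHom (algebraMap K A)))
    (hV : jV ≫ pY = Spec.map (CommRingCat.ofHom (algebraMap K B))) {C : Type u} [CommRing C]
    [Algebra K C] (θ : A ⊗[K] B →ₐ[K] C) :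
    Spec.map (CommRingCat.ofHom θ.toRingHom) ≫ prodChart hU hV ≫ pullback.fst pX pY =
      Spec.map (CommRingCat.ofHom (θ.comp Algebra.TensorProduct.includeLeft).toRingHom) ≫ jU := by
  rw [prodChart, pullback.lift_fst, ← Category.assoc, ← Spec.map_comp]
  rfl

theorem comp_prodChart_snd {jU : Spec (.of A) ⟶ X} {jV : Spec (.of B) ⟶ Y}
    (hU : jU ≫ pX = Spec.map (CommRingCat.ofHom (algebraMap K A)))
    (hV : jV ≫ pY = Spec.map (CommRingCat.ofHom (algebraMap K B))) {C : Type u} [CommRing C]
    [Algebra K C] (θ : A ⊗[K] B →ₐ[K] C) :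
    Spec.map (CommRingCat.ofHom θ.toRingHom) ≫ prodChart hU hV ≫ pullback.snd pX pY =
      Spec.map (CommRingCat.ofHom (θ.comp Algebra.TensorProduct.includeRight).toRingHom) ≫ jV := by
  rw [prodChart, pullback.lift_snd, ← Category.assoc, ← Spec.map_comp]
  rfl

theorem pointOf_eq {jU : Spec (.of A) ⟶ X}
    (hU : jU ≫ pX = Spec.map (CommRingCat.ofHom (algebraMap K A))) (φ : A →ₐ[K] K) :
    (Spec.map (CommRingCat.ofHom φ.toRingHom) ≫ jU) ≫ pX = 𝟙 _ := by
  rw [Category.assoc, hU, ← Spec.map_comp, ← Spec.map_id]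
  congr 1
  ext c
  simp

theorem pointIdeal (φ : A →ₐ[K] K) (z : Spec (CommRingCat.of K)) :
    (Spec.map (CommRingCat.ofHom φ.toRingHom) z).asIdeal = RingHom.ker φ.toRingHom := by
  show Ideal.comap φ.toRingHom z.asIdeal = _
  rw [show z.asIdeal = ⊥ from (Ideal.eq_bot_or_top _).resolve_right z.isPrime.ne_top]
  rfl

/-- The non-vanishing locus on an affine scheme. -/
def nonvan (a : A) : Set (Spec (CommRingCat.of A)) := {p | a ∉ p.asIdeal}

theorem isOpen_nonvan (a : A) : IsOpen (nonvan a) := (PrimeSpectrum.basicOpen a).isOpen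

theorem point_ne (φ : A →ₐ[K] K) (a : A) (z : Spec (CommRingCat.of K)) :
    Spec.map (CommRingCat.ofHom φ.toRingHom) z ∈ nonvan a ↔ φ a ≠ 0 := by
  show a ∉ _ ↔ _
  rw [pointIdeal, RingHom.mem_ker]
  rfl

section point

variable [IsAlgClosed K] [LocallyOfFiniteType pY]

/-- A closed point of a chart comes from a point of its ring. -/
theorem exists_chart_point {jV : Spec (.of B) ⟶ Y} [IsOpenImmersion jV]
    (hV : jV ≫ pY = Spec.map (CommRingCat.ofHom (algebraMap K B))) (q : Spec (.of B))
    (hq : IsClosed ({jV q} : Set Y)) :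
    ∃ ψ : B →ₐ[K] K, pointOfClosedPoint pY (jV q) hq = Spec.map (CommRingCat.ofHom ψ.toRingHom) ≫ jV := by
  have hsub : Set.range (pointOfClosedPoint pY (jV q) hq) ⊆ Set.range jV := by
    rintro _ ⟨a, rfl⟩
    exact ⟨q, (pointOfClosedPoint_apply pY (jV q) hq a).symm⟩
  let h := IsOpenImmersion.lift jV (pointOfClosedPoint pY (jV q) hq) hsub
  let ψ : B →+* K := (Spec.preimage h).hom
  have hh : Spec.map (CommRingCat.ofHom ψ) = h := Spec.map_preimage h
  have hcomm : ψ.comp (algebraMap K B) = RingHom.id K := by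
    have e : Spec.map (CommRingCat.ofHom ψ) ≫ Spec.map (CommRingCat.ofHom (algebraMap K B)) = 𝟙 _ := by
      rw [hh, ← hV, IsOpenImmersion.lift_fac_assoc, pointOfClosedPoint_comp]
    rw [← Spec.map_comp, ← Spec.map_id] at e
    exact congrArg CommRingCat.Hom.hom (Spec.map_injective e)
  refine ⟨⟨ψ, fun c => RingHom.congr_fun hcomm c⟩, ?_⟩
  show _ = Spec.map (CommRingCat.ofHom ψ) ≫ jV
  rw [hh, IsOpenImmersion.lift_fac]

end point

theorem exists_chart (p : X ⟶ Spec (.of K)) [LocallyOfFiniteType p] [IsReduced X] (x : X) :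
    ∃ (A : Type u) (_ : CommRing A) (_ : Algebra K A) (jU : Spec (.of A) ⟶ X),
      IsOpenImmersion jU ∧ (∃ q, jU q = x) ∧ jU ≫ p = Spec.map (CommRingCat.ofHom (algebraMap K A)) ∧
      Algebra.FiniteType K A ∧ IsReduced (Spec (CommRingCat.of A)) := by
  obtain ⟨R, j, hj, hx, -⟩ := AlgebraicGeometry.Scheme.exists_affine_mem_range_and_range_subset (X := X) (U := ⊤) (x := x) trivial
  let al : K →+* R := (Spec.preimage (j ≫ p)).hom
  let _ : Algebra K R := al.toAlgebra
  have hal : j ≫ p = Spec.map (CommRingCat.ofHom (algebraMap K R)) := (Spec.map_preimage (j ≫ p)).symm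
  refine ⟨R, inferInstance, inferInstance, j, hj, hx, hal, ?_, isReduced_of_isOpenImmersion j⟩
  have : LocallyOfFiniteType (Spec.map (CommRingCat.ofHom (algebraMap K R))) := hal ▸ inferInstance
  exact RingHom.finiteType_algebraMap.1 ((HasRingHomProperty.Spec_iff (P := @LocallyOfFiniteType)).1 this)

variable [IsAlgClosed K]

/-- A unit on the product which is `1` on both axes is `1`. -/
theorem eq_one_of_axes [LocallyOfFiniteType pX] [LocallyOfFiniteType pY] [IsReduced X] [IsReduced Y]
    [PreconnectedSpace X] [PreconnectedSpace Y]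
    {eX : Spec (.of K) ⟶ X} (hX : eX ≫ pX = 𝟙 _) {eY : Spec (.of K) ⟶ Y} (hY : eY ≫ pY = 𝟙 _)
    {g : Γ(pullback pX pY, ⊤)} (hg : IsUnit g)
    (h₁ : (pullback.lift (𝟙 X) (pX ≫ eY) (by rw [Category.id_comp, Category.assoc, hY, Category.comp_id])).appTop g = 1)
    (h₂ : (pullback.lift (pY ≫ eX) (𝟙 Y) (by rw [Category.id_comp, Category.assoc, hX, Category.comp_id])).appTop g = 1) :
    g = 1 := by
  classical
  have : JacobsonSpace X := LocallyOfFiniteType.jacobsonSpace pX
  have : JacobsonSpace Y := LocallyOfFiniteType.jacobsonSpace pY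
  have hY0 := ((pointEquivClosedPoint pY) ⟨eY, hY⟩).2
  have hX0 := ((pointEquivClosedPoint pX) ⟨eX, hX⟩).2
  rw [mem_closedPoints_iff] at hY0 hX0
  have heY : pointOfClosedPoint pY _ hY0 = eY :=
    congrArg Subtype.val ((pointEquivClosedPoint pY).symm_apply_apply ⟨eY, hY⟩)
  have heX : pointOfClosedPoint pX _ hX0 = eX :=
    congrArg Subtype.val ((pointEquivClosedPoint pX).symm_apply_apply ⟨eX, hX⟩)
  -- `u_y`, a function on a chart of `X`
  have hcompat : ∀ {A : Type u} [CommRing A] [Algebra K A] {jU : Spec (.of A) ⟶ X}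
      (_ : jU ≫ pX = Spec.map (CommRingCat.ofHom (algebraMap K A))) {y : Spec (.of K) ⟶ Y}
      (_ : y ≫ pY = 𝟙 _), jU ≫ pX = (Spec.map (CommRingCat.ofHom (algebraMap K A)) ≫ y) ≫ pY :=
    fun hU _ hy => by rw [hU, Category.assoc, hy, Category.comp_id]
  have huY : ∀ {A : Type u} [CommRing A] [Algebra K A] {jU : Spec (.of A) ⟶ X}
      (hU : jU ≫ pX = Spec.map (CommRingCat.ofHom (algebraMap K A))) {B : Type u} [CommRing B]
      [Algebra K B] {jV : Spec (.of B) ⟶ Y} (hV : jV ≫ pY = Spec.map (CommRingCat.ofHom (algebraMap K B)))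
      (ψ : B →ₐ[K] K) (y : Spec (.of K) ⟶ Y) (hy : y ≫ pY = 𝟙 _)
      (_ : y = Spec.map (CommRingCat.ofHom ψ.toRingHom) ≫ jV),
      ev g (pullback.lift jU (Spec.map (CommRingCat.ofHom (algebraMap K A)) ≫ y) (hcompat hU hy)) =
        spec₂ ψ (ev g (prodChart hU hV)) := by
    intro A _ _ jU hU B _ _ jV hV ψ y hy hyψ
    refine Eq.trans ?_ (ev_comp g (CommRingCat.ofHom (spec₂ (A := A) ψ).toRingHom) (prodChart hU hV))
    congr 1
    apply pullback.hom_ext
    · rw [pullback.lift_fst, Category.assoc, comp_prodChart_fst hU hV]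
      have : (spec₂ ψ).comp (Algebra.TensorProduct.includeLeft : A →ₐ[K] A ⊗[K] B) = AlgHom.id K A :=
        AlgHom.ext fun a => by simp [spec₂_tmul]
      rw [this]
      exact (by rw [show CommRingCat.ofHom (AlgHom.id K A).toRingHom = 𝟙 _ from rfl, Spec.map_id,
        Category.id_comp])
    · rw [pullback.lift_snd, Category.assoc, comp_prodChart_snd hU hV, hyψ, ← Category.assoc,
        ← Spec.map_comp]
      congr 2
      ext b
      simp [spec₂_tmul, Algebra.algebraMap_eq_smul_one]
  -- along each component of a chart of `X`, the function `u_y` is constant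
  have hconst : ∀ {A : Type u} [CommRing A] [Algebra K A] {jU : Spec (.of A) ⟶ X}
      (hU : jU ≫ pX = Spec.map (CommRingCat.ofHom (algebraMap K A))) (y : Y) (hy : IsClosed ({y} : Set Y))
      (q : Ideal A) [q.IsPrime], ∃ c : K,
        ev g (pullback.lift jU (Spec.map (CommRingCat.ofHom (algebraMap K A)) ≫ pointOfClosedPoint pY y hy)
          (hcompat hU (pointOfClosedPoint_comp pY y hy))) - algebraMap K A c ∈ q := by
    intro A _ _ jU hU y hy q _
    let θ : A →ₐ[K] FractionRing (A ⧸ q) :=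
      (IsScalarTower.toAlgHom K (A ⧸ q) (FractionRing (A ⧸ q))).comp (Ideal.Quotient.mkₐ K q)
    let F : ∀ (y : Y), IsClosed ({y} : Set Y) → A := fun y hy =>
      ev g (pullback.lift jU (Spec.map (CommRingCat.ofHom (algebraMap K A)) ≫ pointOfClosedPoint pY y hy)
        (hcompat hU (pointOfClosedPoint_comp pY y hy)))
    obtain ⟨c, hc⟩ := mem_range_of_forall_valuationSubring (θ (F y hy)) fun O hO => by
      refine forall_closed_of_locally_const (fun z => ∀ hz, θ (F z hz) ∈ O) ?_ hY0 ?_ y hy hy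
      · intro z hz
        obtain ⟨B, _, _, jV, _, ⟨qz, rfl⟩, hV, -, -⟩ := exists_chart pY z
        have hu : IsUnit (ev g (prodChart hU hV)) := isUnit_ev hg _
        obtain ⟨S, S', hS⟩ := unit_mem_valuationSubring_clopen θ O hO hu.unit
        obtain ⟨ψ, hψ⟩ := exists_chart_point hV qz hz
        have key : ∀ (w : Spec (.of B)) (hw : IsClosed ({jV w} : Set Y)) (χ : B →ₐ[K] K),
            pointOfClosedPoint pY (jV w) hw = Spec.map (CommRingCat.ofHom χ.toRingHom) ≫ jV →
            F (jV w) hw = spec₂ χ (ev g (prodChart hU hV)) := fun w hw χ hχ =>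
          huY hU hV χ _ (pointOfClosedPoint_comp _ _ _) hχ
        have hpt : ∀ (w : Spec (.of B)) (hw : IsClosed ({jV w} : Set Y)) (χ : B →ₐ[K] K),
            pointOfClosedPoint pY (jV w) hw = Spec.map (CommRingCat.ofHom χ.toRingHom) ≫ jV →
            ∀ b, w ∈ nonvan b ↔ χ b ≠ 0 := fun w hw χ hχ b => by
          have hw' : Spec.map (CommRingCat.ofHom χ.toRingHom) (IsLocalRing.closedPoint K) = w := by
            apply jV.isOpenEmbedding.injective
            show (Spec.map (CommRingCat.ofHom χ.toRingHom) ≫ jV) (IsLocalRing.closedPoint K) = _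
            rw [← hχ]
            exact pointOfClosedPoint_apply _ _ _ _
          exact (iff_of_eq (congrArg (fun p => p ∈ nonvan b) hw'.symm)).trans (point_ne χ b _)
        obtain ⟨b, hb, hbS⟩ : ∃ b, ψ b ≠ 0 ∧ ∀ χ : B →ₐ[K] K, χ b ≠ 0 →
            (θ (spec₂ χ (ev g (prodChart hU hV))) ∈ O ↔ θ (spec₂ ψ (ev g (prodChart hU hV))) ∈ O) := by
          by_cases hmem : θ (spec₂ ψ (ev g (prodChart hU hV))) ∈ O
          · have := (hS ψ).2.not.1 (not_not.2 hmem)
            push Not at this
            obtain ⟨b, hbS', hb⟩ := this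
            exact ⟨b, hb, fun χ hχ => iff_of_true
              (not_not.1 ((hS χ).2.not.2 fun h => hχ (h b hbS'))) hmem⟩
          · have := (hS ψ).1.not.1 hmem
            push Not at this
            obtain ⟨b, hbS', hb⟩ := this
            exact ⟨b, hb, fun χ hχ => iff_of_false ((hS χ).1.not.2 fun h => hχ (h b hbS')) hmem⟩
        refine ⟨jV '' nonvan b,
          jV.isOpenEmbedding.isOpenMap _ (isOpen_nonvan b),
          ⟨qz, (hpt qz hz ψ hψ b).2 hb, rfl⟩, ?_⟩
        rintro _ ⟨w, hw, rfl⟩ hwc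
        obtain ⟨χ, hχ⟩ := exists_chart_point hV w hwc
        have := hbS χ ((hpt w hwc χ hχ b).1 hw)
        exact ⟨fun h hz' => key qz hz' ψ hψ ▸ this.1 (key w hwc χ hχ ▸ h hwc),
          fun h hz' => key w hz' χ hχ ▸ this.2 (key qz hz ψ hψ ▸ h hz)⟩
      · intro hz
        have : F _ hz = 1 := by
          have e : pullback.lift jU (Spec.map (CommRingCat.ofHom (algebraMap K A)) ≫ pointOfClosedPoint pY _ hz)
              (hcompat hU (pointOfClosedPoint_comp pY _ hz)) =
              jU ≫ pullback.lift (𝟙 X) (pX ≫ eY)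
                (by rw [Category.id_comp, Category.assoc, hY, Category.comp_id]) := by
            apply pullback.hom_ext
            · rw [pullback.lift_fst, Category.assoc, pullback.lift_fst, Category.comp_id]
            · rw [pullback.lift_snd, Category.assoc, pullback.lift_snd, heY, ← Category.assoc, hU]
          show ev g _ = 1
          rw [e, ev, Scheme.Hom.comp_appTop, ConcreteCategory.comp_apply, h₁, map_one, map_one]
        rw [this, map_one]
        exact O.one_mem
    refine ⟨c, ?_⟩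
    rw [← Ideal.Quotient.eq_zero_iff_mem, map_sub, sub_eq_zero]
    apply IsFractionRing.injective (A ⧸ q) (FractionRing (A ⧸ q))
    show θ (F y hy) = θ (algebraMap K A c)
    rw [AlgHom.commutes, hc]
  -- value at a pair of closed points
  have hval : ∀ (y : Y) (hy : IsClosed ({y} : Set Y)) (x : X) (hx : IsClosed ({x} : Set X)),
      ev g (pullback.lift (pointOfClosedPoint pX x hx) (pointOfClosedPoint pY y hy)
        (by rw [pointOfClosedPoint_comp, pointOfClosedPoint_comp])) = 1 := by
    intro y hy x₁ hx₁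
    let V : ∀ (x : X), IsClosed ({x} : Set X) → K := fun x hx =>
      ev g (pullback.lift (pointOfClosedPoint pX x hx) (pointOfClosedPoint pY y hy)
        (by rw [pointOfClosedPoint_comp, pointOfClosedPoint_comp]))
    refine forall_closed_of_locally_const (fun x => ∀ hx, V x hx = 1) ?_ hX0 ?_ x₁ hx₁ hx₁
    · intro x hx
      obtain ⟨A, _, _, jU, _, ⟨qx, rfl⟩, hU, hft, -⟩ := exists_chart pX x
      have : IsNoetherianRing A := Algebra.FiniteType.isNoetherianRing K A
      obtain ⟨φ, hφ⟩ := exists_chart_point hU qx hx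
      obtain ⟨a, ha, hsep⟩ := exists_separating φ
      have key : ∀ (w : Spec (.of A)) (hw : IsClosed ({jU w} : Set X)) (χ : A →ₐ[K] K),
          pointOfClosedPoint pX (jU w) hw = Spec.map (CommRingCat.ofHom χ.toRingHom) ≫ jU →
          V (jU w) hw = χ (ev g (pullback.lift jU (Spec.map (CommRingCat.ofHom (algebraMap K A)) ≫
            pointOfClosedPoint pY y hy) (hcompat hU (pointOfClosedPoint_comp pY y hy)))) := by
        intro w hw χ hχ
        refine Eq.trans ?_ (ev_comp g (CommRingCat.ofHom χ.toRingHom) _)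
        show ev g _ = ev g _
        congr 1
        apply pullback.hom_ext
        · rw [pullback.lift_fst, hχ, Category.assoc, pullback.lift_fst]
        · rw [pullback.lift_snd, Category.assoc, pullback.lift_snd, ← Category.assoc, ← Spec.map_comp]
          have : CommRingCat.ofHom (algebraMap K A) ≫ CommRingCat.ofHom χ.toRingHom = 𝟙 _ := by
            ext c; simp
          rw [this, Spec.map_id, Category.id_comp]
      have hpt : ∀ (w : Spec (.of A)) (hw : IsClosed ({jU w} : Set X)) (χ : A →ₐ[K] K),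
          pointOfClosedPoint pX (jU w) hw = Spec.map (CommRingCat.ofHom χ.toRingHom) ≫ jU →
          ∀ b, w ∈ nonvan b ↔ χ b ≠ 0 := fun w hw χ hχ b => by
        have hw' : Spec.map (CommRingCat.ofHom χ.toRingHom) (IsLocalRing.closedPoint K) = w := by
          apply jU.isOpenEmbedding.injective
          show (Spec.map (CommRingCat.ofHom χ.toRingHom) ≫ jU) (IsLocalRing.closedPoint K) = _
          rw [← hχ]
          exact pointOfClosedPoint_apply _ _ _ _
        exact (iff_of_eq (congrArg (fun p => p ∈ nonvan b) hw'.symm)).trans (point_ne χ b _)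
      refine ⟨jU '' nonvan a,
        jU.isOpenEmbedding.isOpenMap _ (isOpen_nonvan a),
        ⟨qx, (hpt qx hx φ hφ a).2 ha, rfl⟩, ?_⟩
      rintro _ ⟨w, hw, rfl⟩ hwc
      obtain ⟨χ, hχ⟩ := exists_chart_point hU w hwc
      have hχa := (hpt w hwc χ hχ a).1 hw
      have : (RingHom.ker χ.toRingHom).IsPrime := RingHom.ker_isPrime _
      obtain ⟨q, hq, hqle⟩ := Ideal.exists_minimalPrimes_le (I := (⊥ : Ideal A)) (J := RingHom.ker χ.toRingHom) bot_le
      have haq : a ∉ q := fun h => hχa (RingHom.mem_ker.1 (hqle h))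
      have hqφ := hsep q hq haq
      have := hq.1.1
      obtain ⟨c, hc⟩ := hconst hU y hy q
      have e1 := RingHom.mem_ker.1 (hqle hc)
      have e2 := RingHom.mem_ker.1 (hqφ hc)
      simp only [AlgHom.toRingHom_eq_coe, RingHom.coe_coe, map_sub, AlgHom.commutes,
        Algebra.algebraMap_self, RingHom.id_apply, sub_eq_zero] at e1 e2
      have : V (jU w) hwc = V (jU qx) hx := by rw [key w hwc χ hχ, key qx hx φ hφ, e1, e2]
      exact ⟨fun h _ => this ▸ h hwc, fun h _ => this.trans (h hx)⟩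
    · intro hx
      have e : pullback.lift (pointOfClosedPoint pX _ hx) (pointOfClosedPoint pY y hy)
          (by rw [pointOfClosedPoint_comp, pointOfClosedPoint_comp]) =
          pointOfClosedPoint pY y hy ≫ pullback.lift (pY ≫ eX) (𝟙 Y)
            (by rw [Category.id_comp, Category.assoc, hX, Category.comp_id]) := by
        apply pullback.hom_ext
        · rw [pullback.lift_fst, Category.assoc, pullback.lift_fst, pointOfClosedPoint_comp_assoc]
          exact heX
        · rw [pullback.lift_snd, Category.assoc, pullback.lift_snd, Category.comp_id]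
      show ev g _ = 1
      rw [e, ev, Scheme.Hom.comp_appTop, ConcreteCategory.comp_apply, h₂, map_one, map_one]
  -- conclusion on an affine cover
  choose A iA iA' jU hjU hxU hU hftA hredA using fun x => exists_chart pX x
  choose B iB iB' jV hjV hyV hV hftB hredB using fun y => exists_chart pY y
  have hzero : ∀ x y, ev g (prodChart (hU x) (hV y)) = 1 := fun x y => by
    have := affine_isReduced_iff (CommRingCat.of (A x)) |>.1 (hredA x)
    have := affine_isReduced_iff (CommRingCat.of (B y)) |>.1 (hredB y)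
    rw [← sub_eq_zero]
    refine eq_zero_of_forall_pair (K := K) (A := A x) (B := B y) _ fun φ ψ => ?_
    rw [map_sub, map_sub, map_one, map_one, sub_eq_zero]
    have hxc := ((pointEquivClosedPoint pX) ⟨_, pointOf_eq (hU x) φ⟩).2
    have hyc := ((pointEquivClosedPoint pY) ⟨_, pointOf_eq (hV y) ψ⟩).2
    rw [mem_closedPoints_iff] at hxc hyc
    have h := hval _ hyc _ hxc
    refine Eq.trans ?_ h
    refine Eq.trans (ev_comp g (CommRingCat.ofHom (φ.comp (spec₂ ψ)).toRingHom) _).symm ?_
    congr 1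
    apply pullback.hom_ext
    · rw [Category.assoc, comp_prodChart_fst, pullback.lift_fst,
        show pointOfClosedPoint pX _ hxc = _ from
          congrArg Subtype.val ((pointEquivClosedPoint pX).symm_apply_apply ⟨_, pointOf_eq (hU x) φ⟩)]
      congr 2
      ext a
      simp [spec₂_tmul]
    · rw [Category.assoc, comp_prodChart_snd, pullback.lift_snd,
        show pointOfClosedPoint pY _ hyc = _ from
          congrArg Subtype.val ((pointEquivClosedPoint pY).symm_apply_apply ⟨_, pointOf_eq (hV y) ψ⟩)]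
      congr 2
      ext b
      simp [spec₂_tmul]
  let 𝒰X : X.OpenCover := Scheme.Cover.mkOfCovers X (fun x => Spec (CommRingCat.of (A x))) jU
    (fun x => ⟨x, hxU x⟩) hjU
  let 𝒰Y : Y.OpenCover := Scheme.Cover.mkOfCovers Y (fun y => Spec (CommRingCat.of (B y))) jV
    (fun y => ⟨y, hyV y⟩) hjV
  refine (Scheme.Pullback.openCoverOfLeftRight 𝒰X 𝒰Y pX pY).ext_elem g 1 fun ⟨x, y⟩ => ?_
  rw [map_one]
  letI := iA x; letI := iA' x; letI := iB y; letI := iB' y
  let W : pullback (jU x ≫ pX) (jV y ≫ pY) ⟶ pullback pX pY :=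
    pullback.map _ _ _ _ (jU x) (jV y) (𝟙 _) (Category.comp_id _) (Category.comp_id _)
  show W.appTop g = 1
  let e : Spec (CommRingCat.of (A x ⊗[K] B y)) ≅ pullback (jU x ≫ pX) (jV y ≫ pY) :=
    (pullbackSpecIso K (A x) (B y)).symm ≪≫ pullback.congrHom (hU x).symm (hV y).symm
  have he : prodChart (hU x) (hV y) = e.hom ≫ W := by
    have hf : e.hom ≫ pullback.fst _ _ = Spec.map (CommRingCat.ofHom Algebra.TensorProduct.includeLeftRingHom) := by
      simp only [e, Iso.trans_hom, Iso.symm_hom, Category.assoc, pullback.congrHom_hom, pullback.map]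
      erw [pullback.lift_fst, Category.comp_id, pullbackSpecIso_inv_fst]
    have hs : e.hom ≫ pullback.snd _ _ = Spec.map (CommRingCat.ofHom (Algebra.TensorProduct.includeRight (R := K) (A := A x)).toRingHom) := by
      simp only [e, Iso.trans_hom, Iso.symm_hom, Category.assoc, pullback.congrHom_hom, pullback.map]
      erw [pullback.lift_snd, Category.comp_id, pullbackSpecIso_inv_snd]
      rfl
    apply pullback.hom_ext
    · rw [prodChart, pullback.lift_fst, Category.assoc, pullback.lift_fst, reassoc_of% hf]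
    · rw [prodChart, pullback.lift_snd, Category.assoc, pullback.lift_snd, reassoc_of% hs]
  have h := hzero x y
  rw [ev, he, Scheme.Hom.comp_appTop, ConcreteCategory.comp_apply] at h
  have h1 : IsIso e.hom.appTop := (inferInstance : IsIso (Scheme.Γ.map e.hom.op))
  have hinj : Function.Injective (e.hom.appTop ≫ (Scheme.ΓSpecIso _).hom) :=
    (ConcreteCategory.bijective_of_isIso (e.hom.appTop ≫ (Scheme.ΓSpecIso _).hom)).1
  apply hinj
  rw [map_one, ConcreteCategory.comp_apply]
  exact h

end UnitRigidLib
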