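import Mathlib.RingTheory.Valuation.LocalSubring
import Mathlib.RingTheory.Jacobson.Ring
import Mathlib.RingTheory.Spectrum.Prime.Jacobson
import Mathlib.FieldTheory.IsAlgClosed.Basic
import Mathlib.LinearAlgebra.Dual.Lemmas
import Mathlib.LinearAlgebra.TensorProduct.Basis
import Mathlib.RingTheory.TensorProduct.Maps
import Mathlib.RingTheory.Ideal.MinimalPrime.Noetherian
import Mathlib.RingTheory.FiniteType

/-!
# Units on a product: the algebra
-/

set_option autoImplicit false

universe u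

open TensorProduct

namespace UnitRigidLib

variable {K : Type u} [Field K]

section

variable {A B : Type u} [CommRing A] [CommRing B] [Algebra K A] [Algebra K B]

/-- Specialise the second factor. -/
noncomputable def spec₂ (ψ : B →ₐ[K] K) : A ⊗[K] B →ₐ[K] A :=
  Algebra.TensorProduct.productMap (AlgHom.id K A) ((Algebra.ofId K A).comp ψ)

theorem spec₂_tmul (ψ : B →ₐ[K] K) (a : A) (b : B) : spec₂ ψ (a ⊗ₜ b) = ψ b • a := by
  simp [spec₂, Algebra.smul_def, mul_comm]

variable {L : Type u} [Field L] [Algebra K L]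

/-- For a subspace `W` of the target, the locus `{ψ | θ (w(ψ)) ∈ W}` is Zariski closed. -/
theorem mem_iff_forall_eq_zero (θ : A →ₐ[K] L) (W : Submodule K L) (w : A ⊗[K] B) :
    ∃ S : Set B, ∀ ψ : B →ₐ[K] K, θ (spec₂ ψ w) ∈ W ↔ ∀ b ∈ S, ψ b = 0 := by
  let Φ : Module.Dual K L → B := fun l =>
    TensorProduct.lid K B ((l ∘ₗ θ.toLinearMap).rTensor B w)
  refine ⟨Φ '' (W.dualAnnihilator : Set (Module.Dual K L)), fun ψ => ?_⟩
  have hΦ : ∀ l : Module.Dual K L, ψ (Φ l) = l (θ (spec₂ ψ w)) := fun l => by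
    simp only [Φ]
    induction w using TensorProduct.induction_on with
    | zero => simp
    | tmul a b => simp [spec₂_tmul, mul_comm]
    | add x y hx hy => simp only [map_add, hx, hy]
  rw [← Subspace.forall_mem_dualAnnihilator_apply_eq_zero_iff W]
  simp only [Set.forall_mem_image, hΦ, SetLike.mem_coe]

theorem mem_range_of_forall_valuationSubring [IsAlgClosed K] (t : L)
    (h : ∀ O : ValuationSubring L, (∀ c : K, algebraMap K L c ∈ O) → t ∈ O) :
    t ∈ Set.range (algebraMap K L) := by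
  by_contra ht
  have : IsIntegrallyClosedIn (algebraMap K L).range L := by
    refine Subring.isIntegrallyClosedIn_iff.2 ?_
    intro x hx
    let _ : Algebra K (algebraMap K L).range := (algebraMap K L).rangeRestrict.toAlgebra
    have : IsScalarTower K (algebraMap K L).range L := IsScalarTower.of_algebraMap_eq fun _ => rfl
    have : Algebra.IsIntegral K (algebraMap K L).range := ⟨fun y => by
      obtain ⟨c, rfl⟩ := (algebraMap K L).rangeRestrict_surjective y
      exact isIntegral_algebraMap⟩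
    have hxK : IsIntegral K x := isIntegral_trans x hx
    have := IsAlgClosed.degree_eq_one_of_irreducible K (minpoly.irreducible hxK)
    exact minpoly.mem_range_of_degree_eq_one K x this
  obtain ⟨O, hO, htO⟩ := Subring.exists_le_valuationSubring_of_isIntegrallyClosedIn
    (R := (algebraMap K L).range) (x := t) ht
  exact htO (h O fun c => hO ⟨c, rfl⟩)

/-- A valuation subring containing the constants, as a subspace. -/
def valSub (O : ValuationSubring L) (hO : ∀ c : K, algebraMap K L c ∈ O) : Submodule K L where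
  carrier := O
  add_mem' := O.add_mem _ _
  zero_mem' := O.zero_mem
  smul_mem' c x hx := by rw [Algebra.smul_def]; exact O.mul_mem _ _ (hO c) hx

/-- Its maximal ideal, as a subspace. -/
def nuSub (O : ValuationSubring L) (hO : ∀ c : K, algebraMap K L c ∈ O) : Submodule K L where
  carrier := O.nonunits
  add_mem' := by
    intro x y hx hy
    rw [← ValuationSubring.image_maximalIdeal] at hx hy ⊢
    obtain ⟨x, hx, rfl⟩ := hx
    obtain ⟨y, hy, rfl⟩ := hy
    exact ⟨x + y, Ideal.add_mem _ hx hy, rfl⟩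
  zero_mem' := by
    rw [← ValuationSubring.image_maximalIdeal]; exact ⟨0, Ideal.zero_mem _, rfl⟩
  smul_mem' c x hx := by
    rw [← ValuationSubring.image_maximalIdeal] at hx ⊢
    obtain ⟨x, hx, rfl⟩ := hx
    exact ⟨⟨_, hO c⟩ * x, Ideal.mul_mem_left _ _ hx, by rw [Algebra.smul_def]; rfl⟩

/-- The locus where a family of units lies in a valuation ring is open and closed. -/
theorem unit_mem_valuationSubring_clopen (θ : A →ₐ[K] L) (O : ValuationSubring L)
    (hO : ∀ c : K, algebraMap K L c ∈ O) (w : (A ⊗[K] B)ˣ) :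
    ∃ S S' : Set B, ∀ ψ : B →ₐ[K] K,
      (θ (spec₂ ψ (w : A ⊗[K] B)) ∈ O ↔ ∀ b ∈ S, ψ b = 0) ∧
      (θ (spec₂ ψ (w : A ⊗[K] B)) ∉ O ↔ ∀ b ∈ S', ψ b = 0) := by
  obtain ⟨S, hS⟩ := mem_iff_forall_eq_zero θ (valSub O hO) (w : A ⊗[K] B)
  obtain ⟨S', hS'⟩ := mem_iff_forall_eq_zero θ (nuSub O hO) ((w⁻¹ : (A ⊗[K] B)ˣ) : A ⊗[K] B)
  refine ⟨S, S', fun ψ => ⟨hS ψ, ?_⟩⟩
  rw [← hS' ψ]
  have h1 : θ (spec₂ ψ (w : A ⊗[K] B)) * θ (spec₂ ψ ((w⁻¹ : (A ⊗[K] B)ˣ) : A ⊗[K] B)) = 1 := by
    rw [← map_mul, ← map_mul, Units.mul_inv, map_one, map_one]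
  rw [eq_inv_of_mul_eq_one_right h1]
  show _ ↔ _ ∈ O.nonunits
  rw [ValuationSubring.inv_mem_nonunits_iff]
  simp [show θ (spec₂ ψ (w : A ⊗[K] B)) ≠ 0 from fun h => by simp [h] at h1]

variable [IsAlgClosed K]

theorem exists_point [Algebra.FiniteType K A] (m : Ideal A) [m.IsMaximal] :
    ∃ φ : A →ₐ[K] K, RingHom.ker φ.toRingHom = m := by
  let _ : Field (A ⧸ m) := Ideal.Quotient.field m
  have : Algebra.FiniteType K (A ⧸ m) := Algebra.FiniteType.trans (S := A) ‹_› inferInstance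
  have : Module.Finite K (A ⧸ m) := finite_of_finite_type_of_isJacobsonRing K (A ⧸ m)
  let e : K ≃ₐ[K] (A ⧸ m) := AlgEquiv.ofBijective (Algebra.ofId K (A ⧸ m))
    IsAlgClosed.algebraMap_bijective_of_isIntegral
  refine ⟨e.symm.toAlgHom.comp (Ideal.Quotient.mkₐ K m), ?_⟩
  ext a
  simp [RingHom.mem_ker, Ideal.Quotient.eq_zero_iff_mem]

theorem eq_zero_of_forall_point [Algebra.FiniteType K A] [IsReduced A] (a : A)
    (h : ∀ φ : A →ₐ[K] K, φ a = 0) : a = 0 := by
  have : IsJacobsonRing A := isJacobsonRing_of_finiteType (A := K)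
  have hj : a ∈ (⊥ : Ideal A).jacobson := Ideal.mem_sInf.2 fun m ⟨_, hm⟩ => by
    obtain ⟨φ, hφ⟩ := exists_point (K := K) m
    rw [← hφ]; exact h φ
  rwa [IsJacobsonRing.out ‹_› (I := ⊥) (fun x ⟨k, hk⟩ => Ideal.mem_bot.2 (IsReduced.eq_zero x ⟨k, Ideal.mem_bot.1 hk⟩)),
    Ideal.mem_bot] at hj

theorem eq_zero_of_forall_pair [Algebra.FiniteType K A] [IsReduced A] [Algebra.FiniteType K B]
    [IsReduced B] (w : A ⊗[K] B)
    (h : ∀ (φ : A →ₐ[K] K) (ψ : B →ₐ[K] K), φ (spec₂ ψ w) = 0) : w = 0 := by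
  classical
  let e := Module.Free.chooseBasis K B
  apply (TensorProduct.equivFinsuppOfBasisRight (M := A) e).injective
  rw [map_zero]
  ext i
  refine eq_zero_of_forall_point (K := K) _ fun φ => ?_
  let F : A ⊗[K] B →ₗ[K] B := (TensorProduct.lid K B).toLinearMap ∘ₗ φ.toLinearMap.rTensor B
  have hψ : ∀ (ψ : B →ₐ[K] K) (t : A ⊗[K] B), ψ (F t) = φ (spec₂ ψ t) := fun ψ t => by
    induction t using TensorProduct.induction_on with
    | zero => simp
    | tmul a b => simp [F, spec₂_tmul, mul_comm]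
    | add x y hx hy => simp only [map_add, hx, hy]
  have hF : F w = 0 := eq_zero_of_forall_point (K := K) _ fun ψ => by rw [hψ, h φ ψ]
  have hc : ∀ t : A ⊗[K] B,
      φ (TensorProduct.equivFinsuppOfBasisRight (M := A) e t i) = e.repr (F t) i := fun t => by
    induction t using TensorProduct.induction_on with
    | zero => simp
    | tmul a b => simp [F, mul_comm]
    | add x y hx hy => simp [map_add, hx, hy]
  rw [hc, hF]; simp

theorem exists_separating [IsNoetherianRing A] (φ : A →ₐ[K] K) :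
    ∃ a, φ a ≠ 0 ∧ ∀ q ∈ minimalPrimes A, a ∉ q → q ≤ RingHom.ker φ.toRingHom := by
  classical
  have hfin := minimalPrimes.finite_of_isNoetherianRing A
  let T := hfin.toFinset.filter fun q => ¬ q ≤ RingHom.ker φ.toRingHom
  have hex : ∀ q ∈ T, ∃ a ∈ q, φ a ≠ 0 := fun q hq => by
    obtain ⟨a, ha, ha'⟩ := SetLike.not_le_iff_exists.1 (Finset.mem_filter.1 hq).2
    exact ⟨a, ha, ha'⟩
  choose a ha hφa using hex
  refine ⟨∏ q : T, a q.1 q.2, ?_, fun q hq hnot => ?_⟩
  · rw [map_prod]; exact Finset.prod_ne_zero_iff.2 fun q _ => hφa q.1 q.2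
  · by_contra hle
    have hqT : q ∈ T := Finset.mem_filter.2 ⟨hfin.mem_toFinset.2 hq, hle⟩
    exact hnot (Ideal.mem_of_dvd _ (Finset.dvd_prod_of_mem (fun q : T => a q.1 q.2)
      (Finset.mem_univ ⟨q, hqT⟩)) (ha q hqT))

end

end UnitRigidLib
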