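import Mathlib
import Groth.Agent.UnitRigidLib.Algebra

/-! # Units of a tensor product of two affine domains -/

set_option autoImplicit false

noncomputable section

universe u

open TensorProduct

namespace UnitRigidLib

variable {K : Type u} [Field K] [IsAlgClosed K]
  {A B : Type u} [CommRing A] [CommRing B] [Algebra K A] [Algebra K B]

theorem isUnit_of_forall_point [Algebra.FiniteType K A] (a : A) (h : ∀ φ : A →ₐ[K] K, φ a ≠ 0) :
    IsUnit a := by
  by_contra hu
  obtain ⟨m, hm, hle⟩ := Ideal.exists_le_maximal (Ideal.span {a})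
    (by rwa [Ne, Ideal.span_singleton_eq_top])
  obtain ⟨φ, hφ⟩ := exists_point (K := K) m
  refine h φ (RingHom.mem_ker.1 ?_)
  show a ∈ RingHom.ker φ.toRingHom
  rw [hφ]
  exact hle (Ideal.mem_span_singleton_self a)

/-- A unit on the product of two affine varieties is a product of units. -/
theorem exists_tmul_of_isUnit [IsDomain A] [IsDomain B] [Algebra.FiniteType K A] [Algebra.FiniteType K B]
    (w : (A ⊗[K] B)ˣ) : ∃ (a : A) (b : B), (w : A ⊗[K] B) = a ⊗ₜ[K] b := by
  classical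
  obtain ⟨mB, hmB⟩ := Ideal.exists_maximal B
  obtain ⟨ψ₀, -⟩ := exists_point (K := K) mB
  obtain ⟨mA, hmA⟩ := Ideal.exists_maximal A
  obtain ⟨φ₀, -⟩ := exists_point (K := K) mA
  let a : Aˣ := Units.map (spec₂ (A := A) ψ₀ : A ⊗[K] B →* A) w
  let v : (A ⊗[K] B)ˣ :=
    w * Units.map ((Algebra.TensorProduct.includeLeft : A →ₐ[K] A ⊗[K] B) : A →* A ⊗[K] B) a⁻¹
  have hv0 : spec₂ ψ₀ (v : A ⊗[K] B) = 1 := by
    show spec₂ ψ₀ ((w : A ⊗[K] B) * (((a⁻¹ : Aˣ) : A) ⊗ₜ[K] (1 : B))) = 1
    rw [map_mul, spec₂_tmul, map_one, one_smul]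
    exact a.mul_inv
  let θ : A →ₐ[K] FractionRing A := IsScalarTower.toAlgHom K A (FractionRing A)
  have hconst : ∀ ψ : B →ₐ[K] K, ∃ c : K, spec₂ ψ (v : A ⊗[K] B) = algebraMap K A c := by
    intro ψ
    obtain ⟨c, hc⟩ := mem_range_of_forall_valuationSubring (θ (spec₂ ψ (v : A ⊗[K] B))) fun O hO => by
      obtain ⟨S, S', hS⟩ := unit_mem_valuationSubring_clopen θ O hO v
      have h0 : θ (spec₂ ψ₀ (v : A ⊗[K] B)) ∈ O := by rw [hv0, map_one]; exact O.one_mem
      have hne : ∃ s' ∈ S', ψ₀ s' ≠ 0 := by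
        by_contra! hall
        exact (hS ψ₀).2.2 hall h0
      obtain ⟨s', hs', hs'0⟩ := hne
      refine (hS ψ).1.2 fun s hs => ?_
      have hzero : s * s' = 0 := eq_zero_of_forall_point (K := K) _ fun χ => by
        rw [map_mul]
        by_cases hχ : θ (spec₂ χ (v : A ⊗[K] B)) ∈ O
        · rw [(hS χ).1.1 hχ s hs, zero_mul]
        · rw [(hS χ).2.1 hχ s' hs', mul_zero]
      rcases mul_eq_zero.1 hzero with h | h
      · rw [h, map_zero]
      · exact absurd (by rw [h, map_zero]) hs'0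
    refine ⟨c, IsFractionRing.injective A (FractionRing A) ?_⟩
    rw [← IsScalarTower.algebraMap_apply]
    exact hc.symm
  let b : B := TensorProduct.lid K B (φ₀.toLinearMap.rTensor B (v : A ⊗[K] B))
  have hb : ∀ ψ : B →ₐ[K] K, ψ b = φ₀ (spec₂ ψ (v : A ⊗[K] B)) := fun ψ => by
    simp only [b]
    induction (v : A ⊗[K] B) using TensorProduct.induction_on with
    | zero => simp
    | tmul x y => simp [spec₂_tmul, mul_comm]
    | add x y hx hy => simp only [map_add, hx, hy]
  have hveq : (v : A ⊗[K] B) = (1 : A) ⊗ₜ[K] b := by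
    rw [← sub_eq_zero]
    refine eq_zero_of_forall_pair _ fun φ ψ => ?_
    obtain ⟨c, hc⟩ := hconst ψ
    rw [map_sub, map_sub, spec₂_tmul, map_smul, hb, hc, AlgHom.commutes, AlgHom.commutes, map_one]
    simp
  refine ⟨a, b, ?_⟩
  have h : (w : A ⊗[K] B) = (v : A ⊗[K] B) * ((a : A) ⊗ₜ[K] (1 : B)) := by
    show _ = (w : A ⊗[K] B) * (((a⁻¹ : Aˣ) : A) ⊗ₜ[K] (1 : B)) * _
    rw [mul_assoc, Algebra.TensorProduct.tmul_mul_tmul, Units.inv_mul, one_mul,
      ← Algebra.TensorProduct.one_def, mul_one]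
  rw [h, hveq, Algebra.TensorProduct.tmul_mul_tmul, one_mul, mul_one]

/-- A family divisible by `g` at every point of a reduced second factor is divisible by `g`. -/
theorem exists_eq_mul_of_forall_dvd [IsReduced B] [Algebra.FiniteType K B] (g : A) (z : A ⊗[K] B)
    (h : ∀ ψ : B →ₐ[K] K, g ∣ spec₂ ψ z) : ∃ W, z = (g ⊗ₜ[K] (1 : B)) * W := by
  classical
  let π : A →ₐ[K] A ⧸ Ideal.span {g} := Ideal.Quotient.mkₐ K _
  let e := Module.Free.chooseBasis K (A ⧸ Ideal.span {g})
  have h0 : Algebra.TensorProduct.map π (AlgHom.id K B) z = 0 := by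
    apply (TensorProduct.equivFinsuppOfBasisLeft (N := B) e).injective
    rw [map_zero]
    ext i
    refine eq_zero_of_forall_point (K := K) _ fun ψ => ?_
    have hc : ∀ t : A ⊗[K] B, ψ (TensorProduct.equivFinsuppOfBasisLeft (N := B) e
        (Algebra.TensorProduct.map π (AlgHom.id K B) t) i) = e.repr (π (spec₂ ψ t)) i := fun t => by
      induction t using TensorProduct.induction_on with
      | zero => simp
      | tmul a b => simp [spec₂_tmul, mul_comm]
      | add x y hx hy => simp [map_add, hx, hy]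
    rw [hc, show π (spec₂ ψ z) = 0 from
      Ideal.Quotient.eq_zero_iff_mem.2 (Ideal.mem_span_singleton.2 (h ψ)), map_zero]
    rfl
  have hker : z ∈ RingHom.ker (Algebra.TensorProduct.map π (AlgHom.id K B)) := h0
  rw [Algebra.TensorProduct.rTensor_ker π Ideal.Quotient.mk_surjective] at hker
  have hk : RingHom.ker π = Ideal.span {g} := Ideal.mk_ker
  rw [hk, Ideal.map_span, Set.image_singleton, Ideal.mem_span_singleton'] at hker
  obtain ⟨W, hW⟩ := hker
  refine ⟨W, ?_⟩
  rw [← hW, mul_comm]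
  rfl

end UnitRigidLib

end
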